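/-
SL_n inside SL_{n+1}, inverse transpose, generation by adjacent transvections.

* `emb`, `emb_tv`, `emb_smul_snoc`; `exists_low_mul_emb`: the stabiliser of the last basis vector.
* `closure_adjTvSet`: adjacent transvections generate SL_n.
* `τ`: inverse transpose; `τ_tv`, `τ_emb`, `τ_smul_dot`.
-/
import Cfsg.Agent.Lib.AutPSL.Basic
import Cfsg.Agent.Lib.Linear.SLn

set_option autoImplicit false

open Matrix
open scoped commutatorElement

namespace Cfsg.Agent.CurtisTitsA

variable {F : Type*} [Field F] {n : ℕ}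

local notation "SL[" m "]" => Matrix.SpecialLinearGroup (Fin m) F

/-- x_ij(t). -/
abbrev tv {ι : Type*} [Fintype ι] [DecidableEq ι] {i j : ι} (h : i ≠ j) (t : F) :
    Matrix.SpecialLinearGroup ι F := Matrix.SpecialLinearGroup.transvection h t

theorem tv_coe {ι : Type*} [Fintype ι] [DecidableEq ι] {i j : ι} (h : i ≠ j) (t : F) :
    ((tv h t : Matrix.SpecialLinearGroup ι F) : Matrix ι ι F) = 1 + Matrix.single i j t := rfl

theorem smul_eq {ι : Type*} [Fintype ι] [DecidableEq ι] (g : Matrix.SpecialLinearGroup ι F) (v : ι → F) :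
    g • v = g.1 *ᵥ v := rfl

theorem tv_smul_single {ι : Type*} [Fintype ι] [DecidableEq ι] {i j : ι} (h : i ≠ j) (t : F) (k : ι) (c : F) :
    (tv h t : Matrix.SpecialLinearGroup ι F) • (Pi.single k c : ι → F) =
      Pi.single k c + if k = j then Pi.single i (t * c) else 0 := by
  funext l
  rw [Linear.transvection_smul_apply, Pi.add_apply]
  congr 1
  by_cases hk : k = j
  · subst hk
    rw [if_pos rfl, Pi.single_eq_same]
    by_cases hl : l = i
    · subst hl; simp
    · simp [hl]
  · rw [if_neg hk, Pi.single_eq_of_ne (Ne.symm hk)]; simp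

theorem tS_single {ι : Type} [Fintype ι] [DecidableEq ι] {i j : ι} (h : i ≠ j) (a b : F) :
    AutPSL.tS (Pi.single i a : ι → F) (Pi.single j b) = tv h (a * b) := by
  apply Subtype.ext
  rw [AutPSL.tS_coe (by simp [h]), tv_coe]
  congr 1
  ext k l
  simp only [vecMulVec_apply, Matrix.single_apply, Pi.single_apply]
  by_cases hk : k = i
  · subst hk
    by_cases hl : l = j
    · subst hl; simp
    · simp [hl, Ne.symm hl]
  · simp [hk, Ne.symm hk]

theorem castSucc_eq_sum (i : Fin n) : i.castSucc = finSumFinEquiv (Sum.inl i) := rfl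

theorem last_eq_sum : Fin.last n = finSumFinEquiv (Sum.inr (0 : Fin 1)) := by ext; simp

/-- The block matrix diag(A, 1). -/
def embMat (A : Matrix (Fin n) (Fin n) F) : Matrix (Fin (n + 1)) (Fin (n + 1)) F :=
  Matrix.reindex finSumFinEquiv finSumFinEquiv (Matrix.fromBlocks A 0 0 (1 : Matrix (Fin 1) (Fin 1) F))

/-- SL_n as the block fixing the last basis vector. -/
def emb : SL[n] →* SL[n + 1] where
  toFun A := ⟨embMat A.1, by
    rw [embMat, Matrix.det_reindex_self, Matrix.det_fromBlocks_zero₁₂, A.2, Matrix.det_one, mul_one]⟩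
  map_one' := by
    apply Subtype.ext
    show embMat (1 : Matrix (Fin n) (Fin n) F) = 1
    rw [embMat, Matrix.fromBlocks_one, Matrix.reindex_apply, Matrix.submatrix_one_equiv]
  map_mul' A B := by
    apply Subtype.ext
    show embMat (A.1 * B.1) = embMat A.1 * embMat B.1
    simp [embMat, Matrix.reindex_apply, Matrix.submatrix_mul_equiv, Matrix.fromBlocks_multiply]

theorem emb_coe (A : SL[n]) : (emb A).1 = embMat A.1 := rfl

@[simp] theorem emb_cc (A : SL[n]) (i j : Fin n) : (emb A).1 i.castSucc j.castSucc = A.1 i j := by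
  rw [emb_coe, embMat, Matrix.reindex_apply, Matrix.submatrix_apply, castSucc_eq_sum, castSucc_eq_sum,
    Equiv.symm_apply_apply, Equiv.symm_apply_apply, Matrix.fromBlocks_apply₁₁]

@[simp] theorem emb_cl (A : SL[n]) (i : Fin n) : (emb A).1 i.castSucc (Fin.last n) = 0 := by
  rw [emb_coe, embMat, Matrix.reindex_apply, Matrix.submatrix_apply, castSucc_eq_sum, last_eq_sum,
    Equiv.symm_apply_apply, Equiv.symm_apply_apply, Matrix.fromBlocks_apply₁₂, Matrix.zero_apply]

@[simp] theorem emb_lc (A : SL[n]) (j : Fin n) : (emb A).1 (Fin.last n) j.castSucc = 0 := by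
  rw [emb_coe, embMat, Matrix.reindex_apply, Matrix.submatrix_apply, castSucc_eq_sum, last_eq_sum,
    Equiv.symm_apply_apply, Equiv.symm_apply_apply, Matrix.fromBlocks_apply₂₁, Matrix.zero_apply]

@[simp] theorem emb_ll (A : SL[n]) : (emb A).1 (Fin.last n) (Fin.last n) = 1 := by
  rw [emb_coe, embMat, Matrix.reindex_apply, Matrix.submatrix_apply, last_eq_sum,
    Equiv.symm_apply_apply, Matrix.fromBlocks_apply₂₂, Matrix.one_apply_eq]

theorem emb_tv {i j : Fin n} (h : i ≠ j) (t : F) :
    emb (tv h t : SL[n]) = tv ((Fin.castSucc_injective n).ne h) t := by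
  apply Subtype.ext
  ext a b
  induction a using Fin.lastCases <;> induction b using Fin.lastCases <;>
    simp [tv_coe, Matrix.single_apply, Matrix.one_apply, Fin.castSucc_ne_last, (Fin.castSucc_ne_last _).symm]

theorem emb_smul_snoc (A : SL[n]) (u : Fin n → F) (s : F) :
    emb A • (Fin.snoc u s : Fin (n + 1) → F) = Fin.snoc (A • u) s := by
  funext a
  induction a using Fin.lastCases <;>
    simp [Matrix.SpecialLinearGroup.smul_def, Matrix.mulVec, dotProduct, Fin.sum_univ_castSucc]

theorem snoc_single (i : Fin n) (c : F) :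
    (Fin.snoc (Pi.single i c : Fin n → F) 0 : Fin (n + 1) → F) = Pi.single i.castSucc c := by
  funext a
  induction a using Fin.lastCases <;>
    simp [Pi.single_apply, (Fin.castSucc_ne_last _).symm]

theorem snoc_add_last (u : Fin n → F) (s : F) :
    (Fin.snoc u s : Fin (n + 1) → F) = Fin.snoc u 0 + Pi.single (Fin.last n) s := by
  funext a
  induction a using Fin.lastCases <;> simp [Fin.castSucc_ne_last]

theorem emb_smul_last (A : SL[n]) (c : F) :
    emb A • (Pi.single (Fin.last n) c : Fin (n + 1) → F) = Pi.single (Fin.last n) c := by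
  have h : (Pi.single (Fin.last n) c : Fin (n + 1) → F) = Fin.snoc 0 c := by
    funext a; induction a using Fin.lastCases <;> simp [Fin.castSucc_ne_last]
  rw [h, emb_smul_snoc, smul_zero]

/-- The stabiliser of the last basis vector. -/
theorem exists_low_mul_emb (g : SL[n + 1])
    (hg : g • (Pi.single (Fin.last n) 1 : Fin (n + 1) → F) = Pi.single (Fin.last n) 1) :
    ∃ (r : Fin n → F) (A : SL[n]),
      g = AutPSL.tS (Pi.single (Fin.last n) 1) (Fin.snoc r 0) * emb A := by
  have hcol : ∀ a, g.1 a (Fin.last n) = if a = Fin.last n then 1 else 0 := by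
    intro a
    have := congrFun hg a
    simpa [Matrix.SpecialLinearGroup.smul_def, Pi.single_apply, Matrix.mulVec, dotProduct] using this
  let A : Matrix (Fin n) (Fin n) F := g.1.submatrix Fin.castSucc Fin.castSucc
  have hA : A.det = 1 := by
    have h : g.1.submatrix finSumFinEquiv finSumFinEquiv =
        Matrix.fromBlocks A 0 (g.1.submatrix (fun _ : Fin 1 => Fin.last n) Fin.castSucc) (1 : Matrix (Fin 1) (Fin 1) F) := by
      ext a b
      rcases a with a | a <;> rcases b with b | b
      · rfl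
      · rw [Subsingleton.elim b 0]
        simp only [Matrix.submatrix_apply, Matrix.fromBlocks_apply₁₂, Matrix.zero_apply]
        rw [← castSucc_eq_sum, ← last_eq_sum, hcol, if_neg (Fin.castSucc_ne_last _)]
      · rw [Subsingleton.elim a 0]
        simp only [Matrix.submatrix_apply, Matrix.fromBlocks_apply₂₁]
        rw [← last_eq_sum]; rfl
      · rw [Subsingleton.elim a 0, Subsingleton.elim b 0]
        simp only [Matrix.submatrix_apply, Matrix.fromBlocks_apply₂₂, Matrix.one_apply_eq]
        rw [← last_eq_sum, hcol, if_pos rfl]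
    have h' := congrArg Matrix.det h
    rw [Matrix.det_submatrix_equiv_self, g.2, Matrix.det_fromBlocks_zero₁₂, Matrix.det_one, mul_one] at h'
    exact h'.symm
  let As : SL[n] := ⟨A, hA⟩
  let row : Fin n → F := fun j => g.1 (Fin.last n) j.castSucc
  refine ⟨row ᵥ* (As⁻¹).1, As, ?_⟩
  apply Subtype.ext
  have hd : (Fin.snoc (row ᵥ* (As⁻¹).1) 0 : Fin (n + 1) → F) ⬝ᵥ Pi.single (Fin.last n) 1 = 0 := by
    simp
  rw [Matrix.SpecialLinearGroup.coe_mul, AutPSL.tS_coe hd, add_mul, one_mul, Matrix.vecMulVec_mul]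
  have hv : (Fin.snoc (row ᵥ* (As⁻¹).1) 0 : Fin (n + 1) → F) ᵥ* (emb As).1 = Fin.snoc row 0 := by
    funext b
    simp only [Matrix.vecMul, dotProduct, Fin.sum_univ_castSucc]
    induction b using Fin.lastCases with
    | last => simp
    | cast b =>
      simp only [Fin.snoc_castSucc, Fin.snoc_last, emb_cc, zero_mul, add_zero]
      show ((row ᵥ* (As⁻¹).1) ᵥ* As.1) b = row b
      rw [Matrix.vecMul_vecMul, ← Matrix.SpecialLinearGroup.coe_mul, inv_mul_cancel,
        Matrix.SpecialLinearGroup.coe_one, Matrix.vecMul_one]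
  have hAs : ∀ i j, As.1 i j = g.1 i.castSucc j.castSucc := fun _ _ => rfl
  rw [hv]
  ext a b
  rw [Matrix.add_apply, vecMulVec_apply]
  induction a using Fin.lastCases <;> induction b using Fin.lastCases <;>
    simp [hAs, row, hcol, Fin.castSucc_ne_last]

/-- Adjacent elementary transvections. -/
def adjTvSet (n : ℕ) (F : Type*) [Field F] : Set (Matrix.SpecialLinearGroup (Fin n) F) :=
  {g | ∃ (i j : Fin n) (h : i ≠ j) (t : F), (j.val = i.val + 1 ∨ i.val = j.val + 1) ∧ g = tv h t}

theorem commutatorElement_mem {G : Type*} [Group G] {H : Subgroup G} {a b : G} (ha : a ∈ H) (hb : b ∈ H) :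
    ⁅a, b⁆ ∈ H := by
  rw [commutatorElement_def]
  exact mul_mem (mul_mem (mul_mem ha hb) (inv_mem ha)) (inv_mem hb)

theorem closure_adjTvSet : Subgroup.closure (adjTvSet n F) = ⊤ := by
  have key : ∀ d, ∀ (i j : Fin n) (h : i ≠ j) (t : F),
      Nat.dist i.val j.val = d → (tv h t : SL[n]) ∈ Subgroup.closure (adjTvSet n F) := by
    intro d
    induction d using Nat.strong_induction_on with
    | _ d ih =>
      intro i j h t hd
      have hne : i.val ≠ j.val := fun e => h (Fin.ext e)
      by_cases h1 : j.val = i.val + 1 ∨ i.val = j.val + 1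
      · exact Subgroup.subset_closure ⟨i, j, h, t, h1, rfl⟩
      have hex : ∃ k : Fin n, i ≠ k ∧ k ≠ j ∧ Nat.dist i.val k.val < d ∧ Nat.dist k.val j.val < d := by
        simp only [Nat.dist, ne_eq, Fin.ext_iff] at hd ⊢
        rcases Nat.lt_or_gt_of_ne hne with hlt | hlt
        · exact ⟨⟨i.val + 1, by omega⟩, by simp, by simp; omega, by simp; omega, by simp; omega⟩
        · exact ⟨⟨j.val + 1, by omega⟩, by simp; omega, by simp, by simp; omega, by simp; omega⟩
      obtain ⟨k, hik, hkj, d1, d2⟩ := hex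
      have := Linear.transvection_mul_comm hik hkj h t 1
      rw [mul_one] at this
      rw [tv, ← this]
      exact commutatorElement_mem (ih _ d1 i k hik t rfl) (ih _ d2 k j hkj 1 rfl)
  refine top_unique (Linear.closure_slTvSet (ι := Fin n) (F := F) ▸ (Subgroup.closure_le _).2 ?_)
  rintro _ ⟨i, j, h, t, rfl⟩
  exact key _ i j h t rfl

/-- Inverse transpose. -/
def τ : SL[n] →* SL[n] := (AutPSL.invTSL (n := Fin n) (F := F)).toMonoidHom

theorem τ_coe (g : SL[n]) : (τ g).1 = ((g⁻¹ : SL[n]).1)ᵀ := rfl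

@[simp] theorem τ_τ (g : SL[n]) : τ (τ g) = g := by
  have h : (τ g)⁻¹ = τ g⁻¹ := (map_inv τ g).symm
  apply Subtype.ext
  rw [τ_coe, h, τ_coe, inv_inv, Matrix.transpose_transpose]

theorem τ_tv {i j : Fin n} (h : i ≠ j) (t : F) : τ (tv h t : SL[n]) = tv h.symm (-t) := by
  apply Subtype.ext
  rw [τ_coe, Matrix.SpecialLinearGroup.transvection_inv, tv_coe, tv_coe, Matrix.transpose_add,
    Matrix.transpose_one, Matrix.transpose_single]

theorem τ_emb (A : SL[n]) : τ (emb A) = emb (τ A) := by
  apply Subtype.ext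
  rw [τ_coe, ← map_inv]
  ext a b
  rw [Matrix.transpose_apply]
  induction a using Fin.lastCases <;> induction b using Fin.lastCases <;>
    simp [τ_coe, -Matrix.SpecialLinearGroup.coe_inv, -map_inv]

theorem τ_smul_dot (g : SL[n]) (w v : Fin n → F) : (τ g • w) ⬝ᵥ (g • v) = w ⬝ᵥ v := by
  simp only [smul_eq, τ_coe]
  rw [Matrix.mulVec_transpose, ← Matrix.dotProduct_mulVec, Matrix.mulVec_mulVec,
    ← Matrix.SpecialLinearGroup.coe_mul, inv_mul_cancel, Matrix.SpecialLinearGroup.coe_one, Matrix.one_mulVec]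

theorem smul_tS (g : SL[n]) {v w : Fin n → F} (h : w ⬝ᵥ v = 0) :
    g * AutPSL.tS v w * g⁻¹ = AutPSL.tS (g • v) (τ g • w) := by
  have h' : (τ g • w) ⬝ᵥ (g • v) = 0 := by rw [τ_smul_dot, h]
  rw [mul_inv_eq_iff_eq_mul]
  apply Subtype.ext
  rw [Matrix.SpecialLinearGroup.coe_mul, Matrix.SpecialLinearGroup.coe_mul, AutPSL.tS_coe h,
    AutPSL.tS_coe h', mul_add, mul_one, add_mul, one_mul]
  congr 1
  simp only [smul_eq, τ_coe, Matrix.mul_vecMulVec, Matrix.vecMulVec_mul,
    Matrix.mulVec_transpose, Matrix.vecMul_vecMul]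
  rw [← Matrix.SpecialLinearGroup.coe_mul, inv_mul_cancel, Matrix.SpecialLinearGroup.coe_one, Matrix.vecMul_one]

end Cfsg.Agent.CurtisTitsA
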