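/-
Amalgam step: a map on SL_{p+2} and one on SL_3 glued along SL_2 give the root values of SL_{p+3}.

* `Dat Ψ Φ`: the hypotheses; `Dat.dual`: under inverse transpose.
* `col`, `row`: values of the new column and row; `col_add`, `row_add`, `col_mul_row`.
-/
import Cfsg.Agent.Lib.CurtisTitsA.Emb

set_option autoImplicit false

open Matrix
open scoped commutatorElement

namespace Cfsg.Agent.CurtisTitsA

variable {F : Type*} [Field F] {G : Type*} [Group G] {p : ℕ}

local notation "SL[" m "]" => Matrix.SpecialLinearGroup (Fin m) F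
local notation "VV" => (Fin (p + 2) → F)

theorem zero_ne_one3 : (0 : Fin 3) ≠ 1 := by decide
theorem zero_ne_two3 : (0 : Fin 3) ≠ 2 := by decide
theorem one_ne_two3 : (1 : Fin 3) ≠ 2 := by decide

/-- The six root elements of SL_3. -/
def x01 (t : F) : SL[3] := tv zero_ne_one3 t
/-- The six root elements of SL_3. -/
def x10 (t : F) : SL[3] := tv zero_ne_one3.symm t
/-- The six root elements of SL_3. -/
def x02 (t : F) : SL[3] := tv zero_ne_two3 t
/-- The six root elements of SL_3. -/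
def x20 (t : F) : SL[3] := tv zero_ne_two3.symm t
/-- The six root elements of SL_3. -/
def x12 (t : F) : SL[3] := tv one_ne_two3 t
/-- The six root elements of SL_3. -/
def x21 (t : F) : SL[3] := tv one_ne_two3.symm t

theorem τ_x01 (t : F) : τ (x01 t) = x10 (-t) := τ_tv zero_ne_one3 _
theorem τ_x10 (t : F) : τ (x10 t) = x01 (-t) := τ_tv zero_ne_one3.symm _
theorem τ_x12 (t : F) : τ (x12 t) = x21 (-t) := τ_tv one_ne_two3 _
theorem τ_x21 (t : F) : τ (x21 t) = x12 (-t) := τ_tv one_ne_two3.symm _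
theorem τ_x02 (t : F) : τ (x02 t) = x20 (-t) := τ_tv zero_ne_two3 _

theorem x12_add (t u : F) : x12 (t + u) = x12 t * x12 u := Matrix.SpecialLinearGroup.transvection_add one_ne_two3 _ _
theorem x12_zero : x12 (0 : F) = 1 := Matrix.SpecialLinearGroup.transvection_coeff_zero one_ne_two3

/-- The second last index. -/
def pe : Fin (p + 2) := (Fin.last p).castSucc
/-- The last index. -/
def la : Fin (p + 2) := Fin.last (p + 1)

theorem pe_ne_la : (pe : Fin (p + 2)) ≠ la := Fin.castSucc_ne_last _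

/-- The last basis vector. -/
def eL : VV := Pi.single la 1

/-- The gluing hypotheses. -/
structure Dat (Ψ : SL[p + 2] →* G) (Φ : SL[3] →* G) : Prop where
  hp : 1 ≤ p
  h01 : ∀ t : F, Ψ (tv pe_ne_la t) = Φ (x01 t)
  h10 : ∀ t : F, Ψ (tv pe_ne_la.symm t) = Φ (x10 t)
  block : ∀ A t, Commute (Ψ (emb A)) (Φ (x12 t))
  block' : ∀ A t, Commute (Ψ (emb A)) (Φ (x21 t))

variable {Ψ : Matrix.SpecialLinearGroup (Fin (p + 2)) F →* G}
  {Φ : Matrix.SpecialLinearGroup (Fin 3) F →* G}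

theorem Dat.dual (d : Dat Ψ Φ) : Dat (Ψ.comp τ) (Φ.comp τ) where
  hp := d.hp
  h01 t := by simp only [MonoidHom.comp_apply, τ_tv, τ_x01]; exact d.h10 _
  h10 t := by simp only [MonoidHom.comp_apply, τ_tv, τ_x10]; exact d.h01 _
  block A t := by simp only [MonoidHom.comp_apply, τ_emb, τ_x12]; exact d.block' _ _
  block' A t := by simp only [MonoidHom.comp_apply, τ_emb, τ_x21]; exact d.block _ _

/-- The elements whose image commutes with the new root element. -/
def cX (Ψ : SL[p + 2] →* G) (Φ : SL[3] →* G) (t : F) : Subgroup SL[p + 2] :=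
  (Subgroup.centralizer {Φ (x12 t)}).comap Ψ

theorem mem_cX {g : SL[p + 2]} {t : F} : g ∈ cX Ψ Φ t ↔ Commute (Φ (x12 t)) (Ψ g) := by
  simp [cX, Subgroup.mem_centralizer_iff, Commute, SemiconjBy, eq_comm]

theorem x_commute {ι : Type*} [Fintype ι] [DecidableEq ι] {i j k l : ι} (hij : i ≠ j) (hkl : k ≠ l)
    (h₁ : i ≠ l) (h₂ : j ≠ k) (t u : F) :
    Commute (tv hij t : Matrix.SpecialLinearGroup ι F) (tv hkl u) := by
  apply Subtype.ext
  rw [Matrix.SpecialLinearGroup.coe_mul, Matrix.SpecialLinearGroup.coe_mul, tv_coe, tv_coe]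
  simp [mul_add, add_mul, Matrix.single_mul_single_of_ne _ _ _ _ h₂,
    Matrix.single_mul_single_of_ne _ _ _ _ h₁.symm]
  abel

theorem Dat.low_mem (d : Dat Ψ Φ) (r : Fin (p + 1) → F) (t : F) :
    AutPSL.tS (eL : VV) (Fin.snoc r 0) ∈ cX Ψ Φ t := by
  have hdot : ∀ r : Fin (p + 1) → F, (Fin.snoc r 0 : VV) ⬝ᵥ eL = 0 := fun r => by simp [eL, la]
  rw [← Finset.univ_sum_single r]
  refine Finset.sum_induction _ (fun r => AutPSL.tS (eL : VV) (Fin.snoc r 0) ∈ cX Ψ Φ t) ?_ ?_ ?_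
  · intro a b ha hb
    have : (Fin.snoc (a + b) 0 : VV) = Fin.snoc a 0 + Fin.snoc b 0 := by
      funext x; induction x using Fin.lastCases <;> simp
    rw [this, AutPSL.tS_add (hdot a) (hdot b)]
    exact mul_mem ha hb
  · have : (Fin.snoc (0 : Fin (p + 1) → F) 0 : VV) = 0 := by
      funext x; induction x using Fin.lastCases <;> simp
    rw [this, AutPSL.tS_zero]
    exact one_mem _
  intro j _
  have hlj : la ≠ j.castSucc := (Fin.castSucc_ne_last _).symm
  rw [snoc_single, eL, tS_single hlj, one_mul]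
  have h10 : ∀ u : F, tv pe_ne_la.symm u ∈ cX Ψ Φ t := fun u => by
    rw [mem_cX, d.h10]
    exact (x_commute one_ne_two3 zero_ne_one3.symm zero_ne_one3.symm (by decide) t u).map Φ
  by_cases hj : j = Fin.last p
  · subst hj; exact h10 _
  · have hj' : (Fin.last p) ≠ j := Ne.symm hj
    have hc : tv ((Fin.castSucc_injective _).ne hj' : pe ≠ j.castSucc) (1 : F) ∈ cX Ψ Φ t := by
      rw [mem_cX]
      have := (d.block (tv hj' 1) t).symm
      rwa [emb_tv] at this
    have := Linear.transvection_mul_comm pe_ne_la.symm ((Fin.castSucc_injective _).ne hj' : pe ≠ j.castSucc)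
      hlj (r j) 1
    rw [mul_one] at this
    rw [tv, ← this]
    exact commutatorElement_mem (h10 _) hc

theorem Dat.stab (d : Dat Ψ Φ) {g : SL[p + 2]} (hg : g • (eL : VV) = eL) (t : F) :
    Commute (Φ (x12 t)) (Ψ g) := by
  obtain ⟨r, A, rfl⟩ := exists_low_mul_emb g hg
  rw [← mem_cX]
  exact mul_mem (d.low_mem r t) (mem_cX.2 (d.block A t).symm)

open Classical in
/-- The value of the new column with entries v. -/
noncomputable def col (Ψ : SL[p + 2] →* G) (Φ : SL[3] →* G) (v : VV) : G :=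
  if h : ∃ k : SL[p + 2], k • (eL : VV) = v then Ψ h.choose * Φ (x12 1) * (Ψ h.choose)⁻¹ else 1

theorem Dat.col_eq (d : Dat Ψ Φ) {v : VV} {k : SL[p + 2]} (hk : k • (eL : VV) = v) :
    col Ψ Φ v = Ψ k * Φ (x12 1) * (Ψ k)⁻¹ := by
  have h : ∃ k : SL[p + 2], k • (eL : VV) = v := ⟨k, hk⟩
  rw [col, dif_pos h]
  set k' := h.choose
  have hs : (k⁻¹ * k') • (eL : VV) = eL := by
    rw [mul_smul, h.choose_spec, ← hk, inv_smul_smul]
  have := (d.stab hs 1).eq
  rw [map_mul, map_inv] at this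
  calc Ψ k' * Φ (x12 1) * (Ψ k')⁻¹
      = Ψ k * (((Ψ k)⁻¹ * Ψ k') * Φ (x12 1)) * (Ψ k')⁻¹ := by group
    _ = Ψ k * (Φ (x12 1) * ((Ψ k)⁻¹ * Ψ k')) * (Ψ k')⁻¹ := by rw [this]
    _ = _ := by group

theorem eL_ne_zero : (eL : VV) ≠ 0 := fun h => by simpa [eL] using congrFun h la

theorem exists_move {v : VV} (hv : v ≠ 0) : ∃ k : SL[p + 2], k • (eL : VV) = v :=
  Linear.exists_sl_smul_eq eL_ne_zero hv

theorem col_zero : col Ψ Φ (0 : VV) = 1 := by
  rw [col, dif_neg]
  rintro ⟨k, hk⟩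
  refine (eL_ne_zero : (eL : VV) ≠ 0) ?_
  rw [← inv_smul_smul k (eL : VV), hk, smul_zero]

theorem Dat.col_smul (d : Dat Ψ Φ) (g : SL[p + 2]) (v : VV) :
    Ψ g * col Ψ Φ v * (Ψ g)⁻¹ = col Ψ Φ (g • v) := by
  by_cases hv : v = 0
  · subst hv; rw [smul_zero, col_zero]; group
  obtain ⟨k, hk⟩ := exists_move hv
  rw [d.col_eq hk, d.col_eq (k := g * k) (by rw [mul_smul, hk]), map_mul]
  group

/-- The word for a monomial element. -/
def wd {H : Type*} [Group H] (x y : F → H) (c : F) : H := x c * y (-c⁻¹) * x c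

theorem wd_map {H K : Type*} [Group H] [Group K] (f : H →* K) (x y : F → H) (c : F) :
    f (wd x y c) = wd (fun t => f (x t)) (fun t => f (y t)) c := by simp [wd]

theorem Dat.Ψ_wd (d : Dat Ψ Φ) (c : F) :
    Ψ (wd (fun t => tv pe_ne_la t) (fun t => tv pe_ne_la.symm t) c) = Φ (wd x01 x10 c) := by
  simp only [wd, map_mul, d.h01, d.h10]

theorem wd_smul_la {ι : Type*} [Fintype ι] [DecidableEq ι] {i j : ι} (h : i ≠ j) {c : F} (hc : c ≠ 0) (a : F) :
    (wd (fun t => tv h t) (fun t => tv h.symm t) c : Matrix.SpecialLinearGroup ι F) • (Pi.single j a : ι → F) =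
      Pi.single i (c * a) := by
  funext l
  simp only [wd, mul_smul, Linear.transvection_smul_apply]
  by_cases hli : l = i
  · subst hli; simp [h, h.symm, hc]
  · by_cases hlj : l = j
    · subst hlj; simp [h, h.symm, hc]
    · simp [hli, hlj]

theorem wd_smul_pe {ι : Type*} [Fintype ι] [DecidableEq ι] {i j : ι} (h : i ≠ j) {c : F} (hc : c ≠ 0) (a : F) :
    (wd (fun t => tv h t) (fun t => tv h.symm t) c : Matrix.SpecialLinearGroup ι F) • (Pi.single i a : ι → F) =
      Pi.single j (-c⁻¹ * a) := by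
  funext l
  simp only [wd, mul_smul, Linear.transvection_smul_apply]
  by_cases hli : l = i
  · subst hli; simp [h, h.symm, hc]
  · by_cases hlj : l = j
    · subst hlj; simp [h, h.symm, hc]
    · simp [hli, hlj]

theorem sl3_scale {c : F} (hc : c ≠ 0) :
    wd x01 x10 (-c⁻¹) * wd x01 x10 1 * x12 1 = x12 c * (wd x01 x10 (-c⁻¹) * wd x01 x10 1) := by
  refine Linear.sl_ext_smul fun v => funext fun l => ?_
  simp only [wd, x01, x10, x12, mul_smul, Linear.transvection_smul_apply]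
  fin_cases l <;> simp <;> field_simp <;> ring

theorem sl3_shift {c : F} (hc : c ≠ 0) (s : F) :
    x10 (s / c) * wd x01 x10 c * x12 1 = x02 c * x12 s * (x10 (s / c) * wd x01 x10 c) := by
  refine Linear.sl_ext_smul fun v => funext fun l => ?_
  simp only [wd, x01, x10, x12, x02, mul_smul, Linear.transvection_smul_apply]
  fin_cases l <;> simp <;> field_simp <;> ring

theorem Dat.col_last (d : Dat Ψ Φ) (c : F) : col Ψ Φ (Pi.single la c : VV) = Φ (x12 c) := by
  by_cases hc : c = 0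
  · subst hc; rw [Pi.single_zero, col_zero, x12_zero, map_one]
  have hc' : -c⁻¹ ≠ 0 := neg_ne_zero.2 (inv_ne_zero hc)
  rw [d.col_eq (k := wd (fun t => tv pe_ne_la t) (fun t => tv pe_ne_la.symm t) (-c⁻¹) *
      wd (fun t => tv pe_ne_la t) (fun t => tv pe_ne_la.symm t) 1) (by
    rw [eL, mul_smul, wd_smul_la _ one_ne_zero, wd_smul_pe _ hc']
    simp)]
  rw [map_mul, d.Ψ_wd, d.Ψ_wd, ← map_mul, ← map_mul, sl3_scale hc, map_mul]
  group

theorem Dat.col_pe_last (d : Dat Ψ Φ) {c : F} (hc : c ≠ 0) (s : F) :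
    col Ψ Φ (Pi.single pe c + Pi.single la s : VV) = Φ (x02 c * x12 s) := by
  rw [d.col_eq (k := tv pe_ne_la.symm (s / c) * wd (fun t => tv pe_ne_la t) (fun t => tv pe_ne_la.symm t) c) (by
    rw [eL, mul_smul, wd_smul_la _ hc, tv_smul_single, if_pos rfl, mul_one, div_mul_cancel₀ s hc])]
  rw [map_mul, d.Ψ_wd, d.h10, ← map_mul, ← map_mul, sl3_shift hc, map_mul]
  group

theorem Dat.col_add (d : Dat Ψ Φ) (v w : VV) : col Ψ Φ (v + w) = col Ψ Φ v * col Ψ Φ w := by
  by_cases hv : v = 0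
  · subst hv; rw [zero_add, col_zero, one_mul]
  obtain ⟨k, rfl⟩ := exists_move hv
  suffices H : ∀ u : VV, col Ψ Φ (eL + u) = col Ψ Φ eL * col Ψ Φ u by
    obtain ⟨u, rfl⟩ : ∃ u, w = k • u := ⟨k⁻¹ • w, (smul_inv_smul k w).symm⟩
    rw [← smul_add, ← d.col_smul, ← d.col_smul, ← d.col_smul, H]
    group
  intro u
  obtain ⟨u', s, rfl⟩ : ∃ u' s, u = (Fin.snoc u' s : VV) :=
    ⟨Fin.init u, u (Fin.last _), (Fin.snoc_init_self u).symm⟩
  have e0 : ∀ a : F, (Pi.single la a : VV) = Fin.snoc 0 a := by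
    intro a; funext x; induction x using Fin.lastCases <;> simp [la, Fin.castSucc_ne_last]
  by_cases hu : u' = 0
  · subst hu
    rw [← e0, eL, ← Pi.single_add, d.col_last, d.col_last, d.col_last, x12_add, map_mul]
  have : Nontrivial (Fin (p + 1)) := Fin.nontrivial_iff_two_le.2 (by have := d.hp; omega)
  obtain ⟨A, hA⟩ := Linear.exists_sl_smul_eq (u := (Pi.single (Fin.last p) 1 : Fin (p + 1) → F))
    (fun h => by simpa using congrFun h (Fin.last p)) hu
  have e1 : (Fin.snoc u' s : VV) = emb A • (Pi.single pe 1 + Pi.single la s : VV) := by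
    rw [pe, la, ← snoc_single, ← snoc_add_last, emb_smul_snoc, hA]
  have e2 : (eL : VV) = emb A • (eL : VV) := (emb_smul_last A 1).symm
  rw [e1]
  nth_rewrite 1 [e2]
  conv_rhs => arg 1; rw [e2]
  rw [← smul_add, ← d.col_smul, ← d.col_smul, ← d.col_smul]
  have e3 : (eL + (Pi.single pe 1 + Pi.single la s) : VV) = Pi.single pe 1 + Pi.single la (1 + s) := by
    rw [eL, Pi.single_add]; abel
  have e4 : col Ψ Φ (eL : VV) = Φ (x12 1) := d.col_last 1
  rw [e3, d.col_pe_last one_ne_zero, d.col_pe_last one_ne_zero, e4, x12_add, map_mul, map_mul, map_mul]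
  have hc : Commute (Φ (x02 1)) (Φ (x12 (1 : F))) := (x_commute zero_ne_two3 one_ne_two3 zero_ne_two3 (by decide) 1 1).map Φ
  have := hc.eq
  calc _ = Ψ (emb A) * ((Φ (x02 1) * Φ (x12 1)) * Φ (x12 s)) * (Ψ (emb A))⁻¹ := by group
    _ = Ψ (emb A) * ((Φ (x12 1) * Φ (x02 1)) * Φ (x12 s)) * (Ψ (emb A))⁻¹ := by rw [this]
    _ = _ := by group

theorem Dat.col_comm (d : Dat Ψ Φ) (v w : VV) : Commute (col Ψ Φ v) (col Ψ Φ w) := by
  show _ = _
  rw [← d.col_add, ← d.col_add, add_comm]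

theorem Dat.col_neg (d : Dat Ψ Φ) (v : VV) : col Ψ Φ (-v) = (col Ψ Φ v)⁻¹ :=
  eq_inv_of_mul_eq_one_left (by rw [← d.col_add, neg_add_cancel, col_zero])

theorem Dat.comm_old_col (d : Dat Ψ Φ) (g : SL[p + 2]) (v : VV) :
    ⁅Ψ g, col Ψ Φ v⁆ = col Ψ Φ (g • v - v) := by
  rw [commutatorElement_def, d.col_smul, sub_eq_add_neg, d.col_add, d.col_neg]

/-- The value of the new row with entries w. -/
noncomputable def row (Ψ : SL[p + 2] →* G) (Φ : SL[3] →* G) (w : VV) : G :=
  col (Ψ.comp τ) (Φ.comp τ) (-w)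

theorem Dat.row_add (d : Dat Ψ Φ) (v w : VV) : row Ψ Φ (v + w) = row Ψ Φ v * row Ψ Φ w := by
  rw [row, neg_add, d.dual.col_add]; rfl

theorem Dat.row_comm (d : Dat Ψ Φ) (v w : VV) : Commute (row Ψ Φ v) (row Ψ Φ w) := d.dual.col_comm _ _

theorem Dat.row_smul (d : Dat Ψ Φ) (g : SL[p + 2]) (w : VV) :
    Ψ g * row Ψ Φ w * (Ψ g)⁻¹ = row Ψ Φ (τ g • w) := by
  have := d.dual.col_smul (τ g) (-w)
  rw [MonoidHom.comp_apply, τ_τ] at this
  rw [row, row, this, smul_neg]

theorem Dat.row_neg (d : Dat Ψ Φ) (v : VV) : row Ψ Φ (-v) = (row Ψ Φ v)⁻¹ := d.dual.col_neg _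

theorem Dat.row_last (d : Dat Ψ Φ) (c : F) : row Ψ Φ (Pi.single la c : VV) = Φ (x21 c) := by
  rw [row, ← Pi.single_neg, d.dual.col_last, MonoidHom.comp_apply, τ_x12, neg_neg]

theorem Dat.row_zero (d : Dat Ψ Φ) : row Ψ Φ (0 : VV) = 1 := by
  rw [row, neg_zero, col_zero]

theorem Dat.comm_old_row (d : Dat Ψ Φ) (g : SL[p + 2]) (w : VV) :
    ⁅row Ψ Φ w, Ψ g⁆ = row Ψ Φ (w - τ g • w) := by
  rw [sub_eq_add_neg, d.row_add, d.row_neg, ← d.row_smul, commutatorElement_def]
  group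

theorem sl3_cross : x12 1 * x20 1 = x10 1 * (x20 (1 : F) * x12 1) := by
  refine Linear.sl_ext_smul fun v => funext fun l => ?_
  simp only [x10, x12, x20, mul_smul, Linear.transvection_smul_apply]
  fin_cases l <;> simp
  ring

/-- The commutator of the new column and the new row. -/
theorem Dat.col_row (d : Dat Ψ Φ) (v w : VV) (h : w ⬝ᵥ v = 0) :
    ⁅col Ψ Φ v, row Ψ Φ w⁆ = Ψ (AutPSL.tS v w) := by
  by_cases hw : w = 0
  · subst hw; rw [AutPSL.tS_zero, map_one, d.row_zero, commutatorElement_one_right]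
  by_cases hv : v = 0
  · subst hv
    rw [col_zero, commutatorElement_one_left]
    have : AutPSL.tS (0 : VV) w = 1 := by
      apply Subtype.ext
      rw [AutPSL.tS_coe (dotProduct_zero w), Matrix.SpecialLinearGroup.coe_one]; simp
    rw [this, map_one]
  obtain ⟨k, rfl⟩ := exists_move hv
  obtain ⟨w1, rfl⟩ : ∃ w1, w = τ k • w1 := ⟨(τ k)⁻¹ • w, (smul_inv_smul _ w).symm⟩
  rw [τ_smul_dot] at h
  have hw1 : w1 ≠ 0 := fun e => hw (by rw [e, smul_zero])
  rw [← smul_tS k h, map_mul, map_mul, map_inv, ← d.col_smul, ← d.row_smul]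
  suffices H : ⁅col Ψ Φ eL, row Ψ Φ w1⁆ = Ψ (AutPSL.tS (eL : VV) w1) by
    rw [← H, commutatorElement_def, commutatorElement_def]; group
  obtain ⟨u', s, rfl⟩ : ∃ u' s, w1 = (Fin.snoc u' s : VV) :=
    ⟨Fin.init w1, w1 (Fin.last _), (Fin.snoc_init_self w1).symm⟩
  have hs : s = 0 := by simpa [eL, la] using h
  subst hs
  have hu : u' ≠ 0 := fun e => hw1 (by subst e; funext x; induction x using Fin.lastCases <;> simp)
  have : Nontrivial (Fin (p + 1)) := Fin.nontrivial_iff_two_le.2 (by have := d.hp; omega)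
  obtain ⟨A, hA⟩ := Linear.exists_sl_smul_eq (u := (Pi.single (Fin.last p) 1 : Fin (p + 1) → F))
    (fun h => by simpa using congrFun h (Fin.last p)) hu
  have e1 : (Fin.snoc u' 0 : VV) = τ (emb (τ A)) • (Pi.single pe 1 : VV) := by
    rw [τ_emb, τ_τ, pe, ← snoc_single, emb_smul_snoc, hA]
  have e2 : (eL : VV) = emb (τ A) • (eL : VV) := (emb_smul_last (τ A) 1).symm
  have hd : (Pi.single pe 1 : VV) ⬝ᵥ eL = 0 := by simp [eL, pe_ne_la.symm, Pi.single_apply]
  rw [e1]
  nth_rewrite 1 [e2]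
  conv_rhs => arg 2; rw [e2]
  rw [← smul_tS _ hd, map_mul, map_mul, map_inv, ← d.col_smul, ← d.row_smul]
  have key : ⁅col Ψ Φ eL, row Ψ Φ (Pi.single pe 1 : VV)⁆ = Ψ (AutPSL.tS (eL : VV) (Pi.single pe 1)) := by
    have hr : row Ψ Φ (Pi.single pe 1 : VV) = Φ (x20 1) := by
      have hneg : (-(Pi.single pe 1 : VV)) = Pi.single pe (-1) + Pi.single la 0 := by
        rw [Pi.single_zero, add_zero, Pi.single_neg]
      rw [row, hneg, d.dual.col_pe_last (neg_ne_zero.2 one_ne_zero), x12_zero, mul_one,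
        MonoidHom.comp_apply, τ_x02, neg_neg]
    rw [eL, d.col_last, hr, ← map_commutatorElement, tS_single pe_ne_la.symm, mul_one, d.h10]
    congr 1
    rw [commutatorElement_def, mul_inv_eq_iff_eq_mul, mul_inv_eq_iff_eq_mul, mul_assoc]
    exact sl3_cross
  rw [← key, commutatorElement_def, commutatorElement_def]
  group

end Cfsg.Agent.CurtisTitsA
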