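/-
The amalgam: a chain of SL_3's with commuting far root values comes from SL_N.

* `Dat.exists_glue`: one step, by the Steinberg presentation.
* `exists_chain`: the homomorphism on SL_N.
-/
import Cfsg.Agent.Lib.CurtisTitsA.Step
import Cfsg.Agent.S2401

set_option autoImplicit false

open Matrix
open scoped commutatorElement

namespace Cfsg.Agent.CurtisTitsA

variable {F : Type*} [Field F] {G : Type*} [Group G] {p : ℕ}

local notation "SL[" m "]" => Matrix.SpecialLinearGroup (Fin m) F

variable {Ψ : Matrix.SpecialLinearGroup (Fin (p + 2)) F →* G}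
  {Φ : Matrix.SpecialLinearGroup (Fin 3) F →* G}

open Classical in
/-- The root values of SL_{p+3}. -/
noncomputable def rv (Ψ : SL[p + 2] →* G) (Φ : SL[3] →* G) (i j : Fin (p + 3)) (t : F) : G :=
  Fin.lastCases (Fin.lastCases 1 (fun j' => row Ψ Φ (Pi.single j' t)) j)
    (fun i' => Fin.lastCases (col Ψ Φ (Pi.single i' t))
      (fun j' => if h : i' ≠ j' then Ψ (tv h t) else 1) j) i

theorem rv_cc {i j : Fin (p + 2)} (h : i ≠ j) (t : F) :
    rv Ψ Φ i.castSucc j.castSucc t = Ψ (tv h t) := by
  simp [rv, h]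

theorem rv_cl (i : Fin (p + 2)) (t : F) :
    rv Ψ Φ i.castSucc (Fin.last _) t = col Ψ Φ (Pi.single i t) := by
  simp [rv]

theorem rv_lc (j : Fin (p + 2)) (t : F) :
    rv Ψ Φ (Fin.last _) j.castSucc t = row Ψ Φ (Pi.single j t) := by
  simp [rv]

theorem Dat.rv_add (d : Dat Ψ Φ) {i j : Fin (p + 3)} (h : i ≠ j) (t u : F) :
    rv Ψ Φ i j t * rv Ψ Φ i j u = rv Ψ Φ i j (t + u) := by
  induction i using Fin.lastCases with
  | last =>
    induction j using Fin.lastCases with
    | last => exact absurd rfl h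
    | cast j => rw [rv_lc, rv_lc, rv_lc, ← d.row_add, Pi.single_add]
  | cast i =>
    induction j using Fin.lastCases with
    | last => rw [rv_cl, rv_cl, rv_cl, ← d.col_add, Pi.single_add]
    | cast j =>
      have h' : i ≠ j := fun e => h (by rw [e])
      rw [rv_cc h', rv_cc h', rv_cc h', ← map_mul]
      exact congrArg Ψ (Matrix.SpecialLinearGroup.transvection_add h' t u).symm

theorem Dat.old_col (d : Dat Ψ Φ) {i j : Fin (p + 2)} (h : i ≠ j) (t : F) (k : Fin (p + 2)) (u : F) :
    ⁅Ψ (tv h t), col Ψ Φ (Pi.single k u)⁆ = if k = j then col Ψ Φ (Pi.single i (t * u)) else 1 := by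
  rw [d.comm_old_col, tv_smul_single, add_sub_cancel_left]
  split_ifs
  · rfl
  · exact col_zero

theorem Dat.row_old (d : Dat Ψ Φ) {i j : Fin (p + 2)} (h : i ≠ j) (t : F) (k : Fin (p + 2)) (u : F) :
    ⁅row Ψ Φ (Pi.single k u), Ψ (tv h t)⁆ = if k = i then row Ψ Φ (Pi.single j (u * t)) else 1 := by
  rw [d.comm_old_row, τ_tv, tv_smul_single, sub_add_cancel_left]
  split_ifs
  · rw [← Pi.single_neg]; congr 2; ring
  · rw [neg_zero, d.row_zero]

theorem Dat.rv_commute (d : Dat Ψ Φ) {i j k l : Fin (p + 3)} (hij : i ≠ j) (hkl : k ≠ l)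
    (h₁ : i ≠ l) (h₂ : j ≠ k) (t u : F) : Commute (rv Ψ Φ i j t) (rv Ψ Φ k l u) := by
  have hne : ∀ {a b : Fin (p + 2)}, a.castSucc ≠ b.castSucc → a ≠ b := fun h e => h (by rw [e])
  induction i using Fin.lastCases with
  | last =>
    induction j using Fin.lastCases with
    | last => exact absurd rfl hij
    | cast j =>
      induction k using Fin.lastCases with
      | last =>
        induction l using Fin.lastCases with
        | last => exact absurd rfl hkl
        | cast l => rw [rv_lc, rv_lc]; exact d.row_comm _ _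
      | cast k =>
        induction l using Fin.lastCases with
        | last => exact absurd rfl h₁
        | cast l =>
          rw [rv_lc, rv_cc (hne hkl), ← commutatorElement_eq_one_iff_commute, d.row_old,
            if_neg (hne h₂)]
  | cast i =>
    induction j using Fin.lastCases with
    | last =>
      induction k using Fin.lastCases with
      | last => exact absurd rfl h₂
      | cast k =>
        induction l using Fin.lastCases with
        | last => rw [rv_cl, rv_cl]; exact d.col_comm _ _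
        | cast l =>
          rw [rv_cl, rv_cc (hne hkl)]
          refine Commute.symm ?_
          rw [← commutatorElement_eq_one_iff_commute, d.old_col, if_neg (hne h₁)]
    | cast j =>
      induction k using Fin.lastCases with
      | last =>
        induction l using Fin.lastCases with
        | last => exact absurd rfl hkl
        | cast l =>
          rw [rv_lc, rv_cc (hne hij)]
          refine Commute.symm ?_
          rw [← commutatorElement_eq_one_iff_commute, d.row_old, if_neg (Ne.symm (hne h₁))]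
      | cast k =>
        induction l using Fin.lastCases with
        | last =>
          rw [rv_cl, rv_cc (hne hij), ← commutatorElement_eq_one_iff_commute, d.old_col,
            if_neg (Ne.symm (hne h₂))]
        | cast l =>
          rw [rv_cc (hne hij), rv_cc (hne hkl)]
          exact (x_commute _ _ (hne h₁) (hne h₂) t u).map Ψ

theorem Dat.rv_comm (d : Dat Ψ Φ) {i j l : Fin (p + 3)} (hij : i ≠ j) (hjl : j ≠ l) (hil : i ≠ l)
    (t u : F) : ⁅rv Ψ Φ i j t, rv Ψ Φ j l u⁆ = rv Ψ Φ i l (t * u) := by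
  have hne : ∀ {a b : Fin (p + 2)}, a.castSucc ≠ b.castSucc → a ≠ b := fun h e => h (by rw [e])
  induction i using Fin.lastCases with
  | last =>
    induction j using Fin.lastCases with
    | last => exact absurd rfl hij
    | cast j =>
      induction l using Fin.lastCases with
      | last => exact absurd rfl hil
      | cast l => rw [rv_lc, rv_cc (hne hjl), d.row_old, if_pos rfl, rv_lc]
  | cast i =>
    induction j using Fin.lastCases with
    | last =>
      induction l using Fin.lastCases with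
      | last => exact absurd rfl hjl
      | cast l =>
        rw [rv_cl, rv_lc, d.col_row _ _ (by simp [hne hil]), tS_single (hne hil), rv_cc (hne hil)]
    | cast j =>
      induction l using Fin.lastCases with
      | last => rw [rv_cc (hne hij), rv_cl, d.old_col, if_pos rfl, rv_cl]
      | cast l =>
        rw [rv_cc (hne hij), rv_cc (hne hjl), rv_cc (hne hil), ← map_commutatorElement,
          Linear.transvection_mul_comm (hne hij) (hne hjl) (hne hil)]

/-- One amalgam step. -/
theorem Dat.exists_glue [Finite F] (d : Dat Ψ Φ) :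
    ∃ Ψ' : SL[p + 3] →* G,
      (∀ (i j : Fin (p + 2)) (h : i ≠ j) (h' : i.castSucc ≠ j.castSucc) (t : F), Ψ' (tv h' t) = Ψ (tv h t)) ∧
      (∀ (h : (la : Fin (p + 2)).castSucc ≠ Fin.last _) (t : F), Ψ' (tv h t) = Φ (x12 t)) ∧
      (∀ (h : Fin.last _ ≠ (la : Fin (p + 2)).castSucc) (t : F), Ψ' (tv h t) = Φ (x21 t)) := by
  obtain ⟨e, he⟩ := S2401.result (K := F) (p + 3) (by omega)
  let f : {ij : Fin (p + 3) × Fin (p + 3) // ij.1 ≠ ij.2} × F → G :=
    fun x => rv Ψ Φ x.1.1.1 x.1.1.2 x.2
  have hrel : ∀ g ∈ ({g : FreeGroup ({ij : Fin (p + 3) × Fin (p + 3) // ij.1 ≠ ij.2} × F) | ∃ (a : {ij : Fin (p + 3) × Fin (p + 3) // ij.1 ≠ ij.2}) (t u : F),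
            g = FreeGroup.of (a, t) * FreeGroup.of (a, u) * (FreeGroup.of (a, t + u))⁻¹} ∪
          {g | ∃ (a b : {ij : Fin (p + 3) × Fin (p + 3) // ij.1 ≠ ij.2}) (t u : F), a.1.1 ≠ b.1.2 ∧ a.1.2 ≠ b.1.1 ∧
            g = FreeGroup.of (a, t) * FreeGroup.of (b, u) * (FreeGroup.of (a, t))⁻¹ * (FreeGroup.of (b, u))⁻¹} ∪
          {g | ∃ (a b : {ij : Fin (p + 3) × Fin (p + 3) // ij.1 ≠ ij.2}) (h : a.1.1 ≠ b.1.2) (t u : F), a.1.2 = b.1.1 ∧
            g = FreeGroup.of (a, t) * FreeGroup.of (b, u) * (FreeGroup.of (a, t))⁻¹ * (FreeGroup.of (b, u))⁻¹ *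
              (FreeGroup.of (⟨(a.1.1, b.1.2), h⟩, t * u))⁻¹}), FreeGroup.lift f g = 1 := by
    rintro g ((⟨a, t, u, rfl⟩ | ⟨a, b, t, u, h₁, h₂, rfl⟩) | ⟨a, b, h, t, u, h₁, rfl⟩)
    · simp only [map_mul, map_inv, FreeGroup.lift_apply_of, f, mul_inv_eq_one]
      exact d.rv_add a.2 t u
    · simp only [map_mul, map_inv, FreeGroup.lift_apply_of, f]
      rw [← commutatorElement_def, commutatorElement_eq_one_iff_commute]
      exact d.rv_commute a.2 b.2 h₁ h₂ t u
    · obtain ⟨⟨i, k⟩, hik⟩ := a
      obtain ⟨⟨k', j⟩, hkj⟩ := b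
      dsimp only at h₁ h hik hkj
      subst h₁
      simp only [map_mul, map_inv, FreeGroup.lift_apply_of, f]
      rw [mul_inv_eq_one, ← commutatorElement_def]
      exact d.rv_comm hik hkj h t u
  have hval : ∀ (i j : Fin (p + 3)) (h : i ≠ j) (t : F),
      ((PresentedGroup.toGroup hrel).comp e.symm.toMonoidHom) (tv h t) = rv Ψ Φ i j t := by
    intro i j h t
    have h' : e.symm (tv h t) = PresentedGroup.of (⟨(i, j), h⟩, t) := by
      rw [MulEquiv.symm_apply_eq]
      exact Subtype.ext (he ⟨(i, j), h⟩ t).symm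
    rw [MonoidHom.comp_apply, MulEquiv.coe_toMonoidHom, h']
    exact PresentedGroup.toGroup.of hrel
  refine ⟨_, fun i j h h' t => (hval _ _ h' t).trans (rv_cc h t), fun h t => ?_, fun h t => ?_⟩
  · rw [hval _ _ h t, rv_cl, d.col_last]
  · rw [hval _ _ h t, rv_lc, d.row_last]

/-- The amalgam of a chain. -/
theorem exists_chain [Finite F] {N : ℕ} (P Q : ℕ → F → G)
    (hΦ : ∀ k, k + 2 < N → ∃ Φ : SL[3] →* G, ∀ t, Φ (x01 t) = P k t ∧ Φ (x10 t) = Q k t ∧
      Φ (x12 t) = P (k + 1) t ∧ Φ (x21 t) = Q (k + 1) t)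
    (hc : ∀ k l, k + 2 ≤ l → l + 1 < N → ∀ t u, Commute (P k t) (P l u) ∧ Commute (P k t) (Q l u) ∧
      Commute (Q k t) (P l u) ∧ Commute (Q k t) (Q l u))
    (hN : 3 ≤ N) :
    ∃ Ψ : SL[N] →* G, ∀ (i j : Fin N) (h : i ≠ j) (t : F),
      (j.val = i.val + 1 → Ψ (tv h t) = P i t) ∧ (i.val = j.val + 1 → Ψ (tv h t) = Q j t) := by
  suffices H : ∀ q, q + 3 ≤ N → ∃ Ψ : SL[q + 3] →* G, ∀ (i j : Fin (q + 3)) (h : i ≠ j) (t : F),
      (j.val = i.val + 1 → Ψ (tv h t) = P i t) ∧ (i.val = j.val + 1 → Ψ (tv h t) = Q j t) by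
    obtain ⟨q, rfl⟩ : ∃ q, N = q + 3 := ⟨N - 3, by omega⟩
    exact H q le_rfl
  intro q
  induction q with
  | zero =>
    intro h3
    obtain ⟨Φ₀, hΦ₀⟩ := hΦ 0 (by omega)
    refine ⟨Φ₀, fun i j h t => ?_⟩
    obtain ⟨e1, e2, e3, e4⟩ := hΦ₀ t
    fin_cases i <;> fin_cases j <;> first
      | exact absurd rfl h
      | exact ⟨fun _ => e1, fun hh => absurd hh (by simp)⟩
      | exact ⟨fun _ => e3, fun hh => absurd hh (by simp)⟩
      | exact ⟨fun hh => absurd hh (by simp), fun _ => e2⟩
      | exact ⟨fun hh => absurd hh (by simp), fun _ => e4⟩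
      | exact ⟨fun hh => absurd hh (by simp), fun hh => absurd hh (by simp)⟩
  | succ q ih =>
    intro hq
    obtain ⟨Ψ₀, hΨ₀⟩ := ih (by omega)
    obtain ⟨Φ₀, hΦ₀⟩ := hΦ (q + 1) (by omega)
    have hd : Dat (p := q + 1) Ψ₀ Φ₀ := by
      refine ⟨by omega, fun t => ?_, fun t => ?_, fun A t => ?_, fun A t => ?_⟩
      · exact ((hΨ₀ _ _ pe_ne_la t).1 rfl).trans (hΦ₀ t).1.symm
      · exact ((hΨ₀ _ _ pe_ne_la.symm t).2 rfl).trans (hΦ₀ t).2.1.symm
      all_goals
        have hA : A ∈ Subgroup.closure (adjTvSet (q + 2) F) := by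
          rw [closure_adjTvSet]; exact Subgroup.mem_top A
        induction hA using Subgroup.closure_induction with
        | one => rw [map_one, map_one]; exact Commute.one_left _
        | mul a b _ _ ha hb => rw [map_mul, map_mul]; exact ha.mul_left hb
        | inv a _ ha => rw [map_inv, map_inv]; exact ha.inv_left
        | mem a ha =>
          obtain ⟨i, j, h, s, hadj, rfl⟩ := ha
          rw [emb_tv]
          obtain ⟨hp, hq'⟩ := hΨ₀ _ _ ((Fin.castSucc_injective _).ne h) s
          rcases hadj with hadj | hadj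
          · have hk : i.val + 2 ≤ q + 2 := by omega
            rw [hp (by simpa using hadj)]
            simp only [(hΦ₀ t).2.2.1, (hΦ₀ t).2.2.2]
            first
              | exact (hc _ _ (by simpa using hk) (by omega) s t).1
              | exact (hc _ _ (by simpa using hk) (by omega) s t).2.1
          · have hk : j.val + 2 ≤ q + 2 := by omega
            rw [hq' (by simpa using hadj)]
            simp only [(hΦ₀ t).2.2.1, (hΦ₀ t).2.2.2]
            first
              | exact (hc _ _ (by simpa using hk) (by omega) s t).2.2.1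
              | exact (hc _ _ (by simpa using hk) (by omega) s t).2.2.2
    obtain ⟨Ψ₁, h1, h2, h3⟩ := hd.exists_glue
    refine ⟨Ψ₁, fun i j h t => ?_⟩
    induction i using Fin.lastCases with
    | last =>
      induction j using Fin.lastCases with
      | last => exact absurd rfl h
      | cast j =>
        refine ⟨fun hh => ?_, fun hh => ?_⟩
        · simp at hh; omega
        · simp at hh
          obtain rfl : j = (la : Fin (q + 3)) := by ext; simp [la]; omega
          rw [h3, (hΦ₀ t).2.2.2]; rfl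
    | cast i =>
      induction j using Fin.lastCases with
      | last =>
        refine ⟨fun hh => ?_, fun hh => ?_⟩
        · simp at hh
          obtain rfl : i = (la : Fin (q + 3)) := by ext; simp [la]; omega
          rw [h2, (hΦ₀ t).2.2.1]; rfl
        · simp at hh; omega
      | cast j =>
        have h' : i ≠ j := fun e => h (by rw [e])
        rw [h1 i j h' h t]
        simpa using hΨ₀ i j h' t

end Cfsg.Agent.CurtisTitsA
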