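/-
The two SL_2 blocks of SL_3 and automorphisms of SL_2 commuting with the diagonal one of order two.

* `b01`, `b12`, `b12_conj`, `b01_conj`.
* `exists_semiSL`: automorphisms of SL_2(q), q odd, are semilinear.
* `exists_extend`: one commuting with `δ` extends to SL_3 preserving both blocks.
-/
import Cfsg.Agent.Lib.CurtisTitsA.Glue
import Cfsg.Agent.Lib.AutPSL.Count
import Cfsg.Agent.Lib.SLMult.Lift

set_option autoImplicit false

open Matrix

namespace Cfsg.Agent.CurtisTitsA

variable {F : Type*} [Field F]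

local notation "SL[" m "]" => Matrix.SpecialLinearGroup (Fin m) F

/-- The upper block, as matrices. -/
def m01 (x : Matrix (Fin 2) (Fin 2) F) : Matrix (Fin 3) (Fin 3) F :=
  !![x 0 0, x 0 1, 0; x 1 0, x 1 1, 0; 0, 0, 1]

/-- The lower block, as matrices. -/
def m12 (x : Matrix (Fin 2) (Fin 2) F) : Matrix (Fin 3) (Fin 3) F :=
  !![1, 0, 0; 0, x 0 0, x 0 1; 0, x 1 0, x 1 1]

theorem m01_mul (x y : Matrix (Fin 2) (Fin 2) F) : m01 (x * y) = m01 x * m01 y := by
  ext i j
  fin_cases i <;> fin_cases j <;> simp [m01, Matrix.mul_apply, Fin.sum_univ_three]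

theorem m12_mul (x y : Matrix (Fin 2) (Fin 2) F) : m12 (x * y) = m12 x * m12 y := by
  ext i j
  fin_cases i <;> fin_cases j <;> simp [m12, Matrix.mul_apply, Fin.sum_univ_three]

/-- Conjugation by diag(-1, 1), as matrices. -/
def mδ (x : Matrix (Fin 2) (Fin 2) F) : Matrix (Fin 2) (Fin 2) F :=
  !![x 0 0, -(x 0 1); -(x 1 0), x 1 1]

theorem mδ_mul (x y : Matrix (Fin 2) (Fin 2) F) : mδ (x * y) = mδ x * mδ y := by
  ext i j
  fin_cases i <;> fin_cases j <;> simp [mδ, Matrix.mul_apply, Fin.sum_univ_two] <;> ring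

/-- The upper block. -/
def b01 : SL[2] →* SL[3] where
  toFun x := ⟨!![x.1 0 0, x.1 0 1, 0; x.1 1 0, x.1 1 1, 0; 0, 0, 1], by
    have h := x.2
    rw [Matrix.det_fin_two] at h
    rw [Matrix.det_fin_three]
    simp
    linear_combination h⟩
  map_one' := by
    apply Subtype.ext
    ext i j; fin_cases i <;> fin_cases j <;> simp
  map_mul' x y := Subtype.ext (m01_mul x.1 y.1)

/-- The lower block. -/
def b12 : SL[2] →* SL[3] where
  toFun x := ⟨!![1, 0, 0; 0, x.1 0 0, x.1 0 1; 0, x.1 1 0, x.1 1 1], by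
    have h := x.2
    rw [Matrix.det_fin_two] at h
    rw [Matrix.det_fin_three]
    simp
    linear_combination h⟩
  map_one' := by
    apply Subtype.ext
    ext i j; fin_cases i <;> fin_cases j <;> simp
  map_mul' x y := Subtype.ext (m12_mul x.1 y.1)

theorem b01_coe (x : SL[2]) :
    (b01 x).1 = !![x.1 0 0, x.1 0 1, 0; x.1 1 0, x.1 1 1, 0; 0, 0, 1] := rfl

theorem b12_coe (x : SL[2]) :
    (b12 x).1 = !![1, 0, 0; 0, x.1 0 0, x.1 0 1; 0, x.1 1 0, x.1 1 1] := rfl

theorem zero_ne_one2 : (0 : Fin 2) ≠ 1 := by decide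

theorem b01_u (t : F) : b01 (tv zero_ne_one2 t) = x01 t := by
  apply Subtype.ext
  ext i j; fin_cases i <;> fin_cases j <;> simp [b01_coe, x01, tv_coe, Matrix.single_apply]

theorem b01_l (t : F) : b01 (tv zero_ne_one2.symm t) = x10 t := by
  apply Subtype.ext
  ext i j; fin_cases i <;> fin_cases j <;> simp [b01_coe, x10, tv_coe, Matrix.single_apply]

theorem b12_u (t : F) : b12 (tv zero_ne_one2 t) = x12 t := by
  apply Subtype.ext
  ext i j; fin_cases i <;> fin_cases j <;> simp [b12_coe, x12, tv_coe, Matrix.single_apply]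

theorem b12_l (t : F) : b12 (tv zero_ne_one2.symm t) = x21 t := by
  apply Subtype.ext
  ext i j; fin_cases i <;> fin_cases j <;> simp [b12_coe, x21, tv_coe, Matrix.single_apply]

theorem b01_injective : Function.Injective (b01 : SL[2] → SL[3]) := by
  intro x y h
  have h' : (b01 x).1 = (b01 y).1 := congrArg Subtype.val h
  rw [b01_coe, b01_coe] at h'
  apply Subtype.ext
  ext i j
  fin_cases i <;> fin_cases j
  · simpa using congrFun (congrFun h' 0) 0
  · simpa using congrFun (congrFun h' 0) 1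
  · simpa using congrFun (congrFun h' 1) 0
  · simpa using congrFun (congrFun h' 1) 1

theorem b12_injective : Function.Injective (b12 : SL[2] → SL[3]) := by
  intro x y h
  have h' : (b12 x).1 = (b12 y).1 := congrArg Subtype.val h
  rw [b12_coe, b12_coe] at h'
  apply Subtype.ext
  ext i j
  fin_cases i <;> fin_cases j
  · simpa using congrFun (congrFun h' 1) 1
  · simpa using congrFun (congrFun h' 1) 2
  · simpa using congrFun (congrFun h' 2) 1
  · simpa using congrFun (congrFun h' 2) 2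

/-- Conjugation by diag(-1, 1). -/
def δ : SL[2] →* SL[2] where
  toFun x := ⟨!![x.1 0 0, -(x.1 0 1); -(x.1 1 0), x.1 1 1], by
    have h := x.2
    rw [Matrix.det_fin_two] at h
    rw [Matrix.det_fin_two]
    simp
    linear_combination h⟩
  map_one' := by
    apply Subtype.ext
    ext i j; fin_cases i <;> fin_cases j <;> simp
  map_mul' x y := Subtype.ext (mδ_mul x.1 y.1)

theorem δ_coe (x : SL[2]) : (δ x).1 = !![x.1 0 0, -(x.1 0 1); -(x.1 1 0), x.1 1 1] := rfl

/-- The central involution. -/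
def negOne : SL[2] := ⟨-1, by simp [Matrix.det_neg]⟩

theorem negOne_coe : (negOne : SL[2]).1 = -1 := rfl

theorem b12_conj (x : SL[2]) : b01 negOne * b12 x = b12 (δ x) * b01 negOne := by
  apply Subtype.ext
  ext i j
  fin_cases i <;> fin_cases j <;>
    simp [negOne_coe, b01_coe, b12_coe, δ_coe, Matrix.mul_apply, Fin.sum_univ_three]

theorem b01_conj (x : SL[2]) : b12 negOne * b01 x = b01 (δ x) * b12 negOne := by
  apply Subtype.ext
  ext i j
  fin_cases i <;> fin_cases j <;>
    simp [negOne_coe, b01_coe, b12_coe, δ_coe, Matrix.mul_apply, Fin.sum_univ_three]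

theorem negOne_mul_self : (negOne : SL[2]) * negOne = 1 := Subtype.ext (show (-1 : Matrix (Fin 2) (Fin 2) F) * -1 = 1 by simp)

theorem negOne_ne_one (h2 : (2 : F) ≠ 0) : (negOne : SL[2]) ≠ 1 := fun h => h2 (by
  have := congrFun (congrFun (congrArg Subtype.val h) 0) 0
  simp [negOne] at this
  linear_combination -this)

theorem eq_negOne_of_sq (h2 : (2 : F) ≠ 0) {x : SL[2]} (hx : x * x = 1) (hx1 : x ≠ 1) : x = negOne := by
  have hinv : x⁻¹ = x := inv_eq_of_mul_eq_one_right hx
  have hd := x.2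
  rw [Matrix.det_fin_two] at hd
  have e : (x⁻¹).1 = !![x.1 1 1, -(x.1 0 1); -(x.1 1 0), x.1 0 0] := by
    rw [Matrix.SpecialLinearGroup.coe_inv, Matrix.adjugate_fin_two]
  rw [hinv] at e
  have e00 := congrFun (congrFun e 0) 0
  have e01 := congrFun (congrFun e 0) 1
  have e10 := congrFun (congrFun e 1) 0
  simp at e00 e01 e10
  have h01 : x.1 0 1 = 0 := mul_left_cancel₀ h2 (by linear_combination e01)
  have h10 : x.1 1 0 = 0 := mul_left_cancel₀ h2 (by linear_combination e10)
  rw [h01, ← e00] at hd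
  have h00 : x.1 0 0 * x.1 0 0 = 1 := by linear_combination hd
  rcases mul_self_eq_one_iff.1 h00 with h | h
  · refine absurd (Subtype.ext ?_) hx1
    ext i j; fin_cases i <;> fin_cases j <;> simp [h, h01, h10, ← e00]
  · refine Subtype.ext ?_
    ext i j; fin_cases i <;> fin_cases j <;> simp [negOne, h, h01, h10, ← e00]

theorem τ_two_coe (x : SL[2]) : (τ x).1 = !![x.1 1 1, -(x.1 1 0); -(x.1 0 1), x.1 0 0] := by
  rw [τ_coe, Matrix.SpecialLinearGroup.coe_inv, Matrix.adjugate_fin_two]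
  ext i j; fin_cases i <;> fin_cases j <;> simp

theorem τ_b01 (x : SL[2]) : τ (b01 x) = b01 (τ x) := by
  apply Subtype.ext
  rw [τ_coe, ← map_inv, b01_coe, b01_coe]
  ext i j; fin_cases i <;> fin_cases j <;> simp [τ_coe, -Matrix.SpecialLinearGroup.coe_inv, -map_inv]

theorem τ_b12 (x : SL[2]) : τ (b12 x) = b12 (τ x) := by
  apply Subtype.ext
  rw [τ_coe, ← map_inv, b12_coe, b12_coe]
  ext i j; fin_cases i <;> fin_cases j <;> simp [τ_coe, -Matrix.SpecialLinearGroup.coe_inv, -map_inv]

section Aut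

variable [Fintype F]

/-- Automorphisms of SL_2(q), q odd, are semilinear. -/
theorem exists_semiSL (hF : Odd (Fintype.card F)) (θ : SL[2] ≃* SL[2]) :
    ∃ (g : GL (Fin 2) F) (σ : F ≃+* F), ∀ x, θ x = AutPSL.semiSL g σ x := by
  let α : MulAut (ProjectiveSpecialLinearGroup (Fin 2) F) :=
    QuotientGroup.congr _ _ θ (Linear.map_center_mulEquiv _)
  obtain ⟨g, σ, hα⟩ := AutPSL.exists_semi_of_two (F := F) α
  refine ⟨g, σ, ?_⟩
  set S := (AutPSL.semiSL g σ : SL[2] ≃* SL[2])
  have hc : ∀ x, (S x)⁻¹ * θ x ∈ Subgroup.center SL[2] := fun x => by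
    have : α (AutPSL.proj _ F x) = AutPSL.proj _ F (θ x) := rfl
    rw [hα, AutPSL.semi_proj] at this
    exact QuotientGroup.eq.1 this
  let H : Subgroup SL[2] :=
    { carrier := {x | θ x = S x}
      one_mem' := by simp
      mul_mem' := fun {a b} (ha : θ a = S a) (hb : θ b = S b) => show θ (a * b) = S (a * b) by
        rw [map_mul, map_mul, ha, hb]
      inv_mem' := fun {a} (ha : θ a = S a) => show θ a⁻¹ = S a⁻¹ by rw [map_inv, map_inv, ha] }
  have hH : Subgroup.closure (Linear.slTvSet (Fin 2) F) ≤ H := by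
    rw [Subgroup.closure_le]
    rintro _ ⟨i, j, h, t, rfl⟩
    show θ _ = S _
    set x : SL[2] := Matrix.SpecialLinearGroup.transvection h t
    set c := (S x)⁻¹ * θ x with hcdef
    have hxq : x ^ Fintype.card F = 1 := by
      rw [SLMult.tv_pow, FiniteField.cast_card_eq_zero, zero_mul, SLMult.tv_zero]
    have hcomm : Commute (S x) c := Subgroup.mem_center_iff.1 (hc x) _
    have hθ : θ x = S x * c := by rw [hcdef, mul_inv_cancel_left]
    have hq : c ^ Fintype.card F = 1 := by
      have := congrArg (· ^ Fintype.card F) hθ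
      simp only [hcomm.mul_pow, ← map_pow, hxq, map_one, one_mul] at this
      exact this.symm
    have h2 : c * c = 1 := by
      obtain ⟨r, hr, hr'⟩ := Matrix.SpecialLinearGroup.mem_center_iff.1 (hc x)
      rw [← hcdef] at hr'
      apply Subtype.ext
      rw [Matrix.SpecialLinearGroup.coe_mul, ← hr', Matrix.scalar_apply, Matrix.diagonal_mul_diagonal,
        Matrix.SpecialLinearGroup.coe_one, ← Matrix.diagonal_one]
      congr 1; funext k; rw [← sq]; simpa using hr
    obtain ⟨m, hm⟩ := hF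
    rw [hm, pow_succ, pow_mul, sq, h2, one_pow, one_mul] at hq
    rw [hθ, hq, mul_one]
  intro x
  have : x ∈ H := hH (by rw [Linear.closure_slTvSet]; exact Subgroup.mem_top _)
  exact this

/-- An automorphism commuting with δ extends to SL_3 respecting both blocks. -/
theorem exists_extend (hF : Odd (Fintype.card F)) (θ : SL[2] ≃* SL[2]) (hθ : ∀ x, θ (δ x) = δ (θ x)) :
    ∃ (A : SL[3] →* SL[3]) (θ' : SL[2] ≃* SL[2]), (∀ x, A (b01 x) = b01 (θ x)) ∧ ∀ x, A (b12 x) = b12 (θ' x) := by
  obtain ⟨g, σ, hg⟩ := exists_semiSL hF θ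
  -- the entries of g
  set M : Matrix (Fin 2) (Fin 2) F := g.1 with hM
  set M' : Matrix (Fin 2) (Fin 2) F := (g⁻¹ : GL (Fin 2) F).1 with hM'
  have hMM' : M * M' = 1 := by rw [hM, hM', Units.mul_inv]
  have hM'M : M' * M = 1 := by rw [hM, hM', Units.inv_mul]
  let D : Matrix (Fin 2) (Fin 2) F := Matrix.diagonal ![-1, 1]
  have hDD : D * D = 1 := by
    ext i j; fin_cases i <;> fin_cases j <;> simp [D]
  have hδ : ∀ x : SL[2], (δ x).1 = D * x.1 * D := fun x => by
    ext i j; fin_cases i <;> fin_cases j <;> simp [δ_coe, D, Matrix.diagonal_mul, Matrix.mul_diagonal]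
  have hσD : D.map σ = D := by
    ext i j; fin_cases i <;> fin_cases j <;> simp [D]
  have hN : ∀ y : SL[2], Commute (M' * D * M * D) y.1 := by
    intro y
    obtain ⟨x, rfl⟩ : ∃ x : SL[2], y = Linear.slMapEquiv σ x :=
      ⟨(Linear.slMapEquiv σ).symm y, (MulEquiv.apply_symm_apply _ y).symm⟩
    have h := congrArg Subtype.val (hθ x)
    rw [hg, hδ, hg, AutPSL.semiSL_coe, AutPSL.semiSL_coe, hδ, Matrix.map_mul, Matrix.map_mul, hσD] at h
    have hx : (Linear.slMapEquiv σ x : SL[2]).1 = x.1.map σ := rfl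
    rw [Commute, SemiconjBy, hx]
    set X := x.1.map σ
    rw [← hM, ← hM'] at h
    calc M' * D * M * D * X = M' * D * (M * (D * X * D) * M') * M * D := by
          simp only [mul_assoc]
          rw [show M' * (M * D) = D by rw [← mul_assoc, hM'M, one_mul], hDD, mul_one]
      _ = M' * D * (D * (M * X * M') * D) * M * D := by rw [h]
      _ = (M' * (D * D) * M) * X * (M' * D * M * D) := by simp only [mul_assoc]
      _ = X * (M' * D * M * D) := by rw [hDD, mul_one, hM'M, one_mul]
  -- scalar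
  have key : (M 0 0 = 0 ∧ M 1 1 = 0) ∨ (M 0 1 = 0 ∧ M 1 0 = 0) := by
    set N := M' * D * M * D
    have hu := hN (tv zero_ne_one2 1)
    have hl := hN (tv zero_ne_one2.symm 1)
    rw [Commute, SemiconjBy, tv_coe] at hu hl
    have u00 := congrFun (congrFun hu 0) 0
    have u01 := congrFun (congrFun hu 0) 1
    have l11 := congrFun (congrFun hl 1) 1
    simp [Matrix.mul_apply, Fin.sum_univ_two, Matrix.single_apply] at u00 u01 l11
    have hsc : N = N 0 0 • 1 := by
      ext i j; fin_cases i <;> fin_cases j <;> simp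
      · exact l11
      · exact u00
      · linear_combination -u01
    have hgd : D * M * D = N 0 0 • M := by
      calc D * M * D = M * N := by simp only [N, ← mul_assoc, hMM', one_mul]
        _ = _ := by rw [hsc]; simp
    have e00 := congrFun (congrFun hgd 0) 0
    have e01 := congrFun (congrFun hgd 0) 1
    have e10 := congrFun (congrFun hgd 1) 0
    have e11 := congrFun (congrFun hgd 1) 1
    simp [D, Matrix.diagonal_mul, Matrix.mul_diagonal] at e00 e01 e10 e11
    have h2 : (2 : F) ≠ 0 := fun h => by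
      have := FiniteField.cast_card_eq_zero F
      obtain ⟨m, hm⟩ := hF
      rw [hm] at this
      push_cast at this
      rw [h] at this
      simp at this
    by_cases hc : N 0 0 = 1
    · rw [hc, one_mul] at e01 e10
      exact Or.inr ⟨mul_left_cancel₀ h2 (by linear_combination -e01), mul_left_cancel₀ h2 (by linear_combination -e10)⟩
    · refine Or.inl ⟨?_, ?_⟩
      · exact (mul_eq_zero.1 (show (N 0 0 - 1) * M 0 0 = 0 by linear_combination -e00)).resolve_left (sub_ne_zero.2 hc)
      · exact (mul_eq_zero.1 (show (N 0 0 - 1) * M 1 1 = 0 by linear_combination -e11)).resolve_left (sub_ne_zero.2 hc)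
  have hdet : M.det ≠ 0 := by
    intro h
    have := congrArg Matrix.det hMM'
    rw [Matrix.det_mul, h, zero_mul, Matrix.det_one] at this
    exact zero_ne_one this
  rw [Matrix.det_fin_two] at hdet
  -- diagonal extensions
  have ext3 : ∀ a d : F, a ≠ 0 → d ≠ 0 → ∃ A : SL[3] ≃* SL[3],
      (∀ x : SL[2], ∀ y : SL[2], y.1 = !![σ (x.1 0 0), a * σ (x.1 0 1) / d; d * σ (x.1 1 0) / a, σ (x.1 1 1)] →
        A (b01 x) = b01 y) ∧ ∀ x : SL[2], A (b12 x) = b12 (Linear.slMapEquiv σ x) := by
    intro a d ha hd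
    let g3 : GL (Fin 3) F :=
      ⟨Matrix.diagonal ![a, d, d], Matrix.diagonal ![a⁻¹, d⁻¹, d⁻¹],
        by ext i j; fin_cases i <;> fin_cases j <;> simp [ha, hd],
        by ext i j; fin_cases i <;> fin_cases j <;> simp [ha, hd]⟩
    refine ⟨AutPSL.semiSL g3 σ, fun x y hy => Subtype.ext ?_, fun x => Subtype.ext ?_⟩
    · rw [AutPSL.semiSL_coe, b01_coe, b01_coe, hy]
      ext i j
      fin_cases i <;> fin_cases j <;>
        simp [g3, Matrix.diagonal_mul, Matrix.mul_diagonal, ha, hd, div_eq_mul_inv, mul_comm, mul_left_comm]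
    · rw [AutPSL.semiSL_coe, b12_coe, b12_coe]
      have hx : ∀ i j, (Linear.slMapEquiv σ x : SL[2]).1 i j = σ (x.1 i j) := fun _ _ => rfl
      ext i j
      fin_cases i <;> fin_cases j <;>
        simp [g3, Matrix.diagonal_mul, Matrix.mul_diagonal, ha, hd, hx, mul_comm, mul_left_comm]
  have hθc : ∀ x, (θ x).1 = M * x.1.map σ * M' := fun x => by rw [hg, AutPSL.semiSL_coe]
  rcases key with ⟨h00, h11⟩ | ⟨h01, h10⟩
  · rw [h00, zero_mul, zero_sub] at hdet
    have hb : M 0 1 ≠ 0 := fun h => hdet (by rw [h, zero_mul, neg_zero])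
    have hc : M 1 0 ≠ 0 := fun h => hdet (by rw [h, mul_zero, neg_zero])
    have hMi : M' = !![0, (M 1 0)⁻¹; (M 0 1)⁻¹, 0] := by
      have h1 : M * !![0, (M 1 0)⁻¹; (M 0 1)⁻¹, 0] = 1 := by
        ext i j; fin_cases i <;> fin_cases j <;> simp [Matrix.mul_apply, Fin.sum_univ_two, h00, h11, hb, hc]
      calc M' = M' * (M * !![0, (M 1 0)⁻¹; (M 0 1)⁻¹, 0]) := by rw [h1, mul_one]
        _ = _ := by rw [← mul_assoc, hM'M, one_mul]
    obtain ⟨A, hA1, hA2⟩ := ext3 (M 0 1) (-(M 1 0)) hb (neg_ne_zero.2 hc)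
    refine ⟨A.toMonoidHom.comp τ, (AutPSL.invTSL).trans (Linear.slMapEquiv σ),
      fun x => ?_, fun x => ?_⟩
    · rw [MonoidHom.comp_apply, τ_b01, MulEquiv.coe_toMonoidHom]
      refine hA1 _ _ ?_
      rw [hθc, τ_two_coe, hMi]
      ext i j
      fin_cases i <;> fin_cases j <;>
        simp [Matrix.mul_apply, Fin.sum_univ_two, h00, h11, hb, hc, div_eq_mul_inv, mul_comm, mul_left_comm]
    · rw [MonoidHom.comp_apply, τ_b12, MulEquiv.coe_toMonoidHom, hA2]
      rfl
  · rw [h01, zero_mul, sub_zero] at hdet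
    have ha : M 0 0 ≠ 0 := fun h => hdet (by rw [h, zero_mul])
    have hd : M 1 1 ≠ 0 := fun h => hdet (by rw [h, mul_zero])
    have hMi : M' = !![(M 0 0)⁻¹, 0; 0, (M 1 1)⁻¹] := by
      have h1 : M * !![(M 0 0)⁻¹, 0; 0, (M 1 1)⁻¹] = 1 := by
        ext i j; fin_cases i <;> fin_cases j <;> simp [Matrix.mul_apply, Fin.sum_univ_two, h01, h10, ha, hd]
      calc M' = M' * (M * !![(M 0 0)⁻¹, 0; 0, (M 1 1)⁻¹]) := by rw [h1, mul_one]
        _ = _ := by rw [← mul_assoc, hM'M, one_mul]
    obtain ⟨A, hA1, hA2⟩ := ext3 (M 0 0) (M 1 1) ha hd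
    refine ⟨A.toMonoidHom, Linear.slMapEquiv σ, fun x => hA1 _ _ ?_, hA2⟩
    rw [hθc, hMi]
    ext i j
    fin_cases i <;> fin_cases j <;>
      simp [Matrix.mul_apply, Fin.sum_univ_two, h01, h10, ha, hd, div_eq_mul_inv, mul_comm, mul_left_comm]

end Aut

end Cfsg.Agent.CurtisTitsA
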